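set_option autoImplicit false
namespace Cfsg.Agent.Lib.Helper6.TCD.S44C
noncomputable def NC (i : Nat) : Nat := Nat.land (Nat.shiftRight 0x18000840001b600021000040002100006d000084000080013000087300021000010002100006c4000840001c000800003370002000006000200000cd80008000014000800003350002000002000200000cc8000800001c0007c0001f70001f000060001f00007d80007c000140007c0001f50001f000040001f00007d00007c00084000180058d30001f000010001f00007c40007c00010000780007340001e000020001e0001cc80007800010000740000340001d000020001d00000c80007400010000700000340001c000020001c00000c80007000014000b00006b70001a000060001a00000d80006800014000680000350001a0001a000150001d4c0006800008000980004310001a000040001300002d00004c00008000e80004e200013000040001200002d00004800000000e80004f200012000040001100009d0000440004c0002c00531200011000050002600010dc00040000180004000017600010000050001000005d400040000080004000017200010000050002500013dc00038000180009c0003a60000e000070002500013d40003800010000380002740000e00003000270000e8c00038000040009c0003a10000e000040000d00001d00003400008000340000720000d000060000c00005d80003000008000300001720000c000060000a00000d80002800010000280000340000a00002000150000acc0002800004000280000310000a000000002500013980002400010000240000b400009000130000b001494800024000100002000003400008000020000800000c800020000100001c00003400007000030005600007c80001c000100001800007400006000030004c00021c800018000140003000017700005000060000500000d8000140001400014000035000050000c00004000104c00014000000005400135200005000070000300001dc0000c000180000c00007600003000050000300001d40000c000100000c000074000030000a00006001634c0000c000040000c000071000030000500011000099c00008000080009c0003b60000200002000250001394000080001000008000034000020000900004000094c0000800018000440002620000200006000060000198000040001000004000034000010000300004000018c000040000c000a4000072000010000900011000c24400004000140001800006700000000010001200002d800000000040004400027500000000020001a00000d00000000004000180058d30000000003000150000ac800000000080005400101100000000010000900002c000000000000000000000000000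 (Nat.mul 86 (Nat.land i 511))) 77371252455336267181195263
end Cfsg.Agent.Lib.Helper6.TCD.S44C
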