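set_option autoImplicit false
namespace Cfsg.Agent.Lib.Helper6.TCD.S44C
noncomputable def NH (i : Nat) : Nat := Nat.land (Nat.shiftRight 0x18d000010003180004000060c0001c000c5800088001aa0001c0003520005a0006a000078000d38001600018a000000003120001000062000034000c3800110001820002100030c000240006fc00118000df000228001d1000000003a00000000073c00000000e7000000001bc000420003960000000072800000000e10000d0001b5000360003480002000064400044000d00000800018f000270003380004c0006380004c000db8001b8001c70001d00038c0003800071400068000ca8000480019a0000900032c0002400069400098000cc800098001970000d00035c000180006b400000000dd8000e8001b90001a00018a0000e000310000140005d800008000c3000020003260001c0006cc00040000c9000098001ac000050003560000200069800014000c2800030001a10000c0003080000e0006e800070000e6800000001cc000000000d8000180007200000000061000030000c10000d000180000100002fc000300005d000050000be0000900033a0000400066000008000ca000048001c4000050000700001200067800024000d1800008001b40000500005e000000002f400000000d8800010001a20000000033e0000000066c00004000e48000000002e000010001780000200070c00000000d9000000001d200000 (Nat.mul 43 (Nat.land i 1023))) 8796093022207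
end Cfsg.Agent.Lib.Helper6.TCD.S44C
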